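import Cfsg.Agent.Mrg.Omega.IId.Big.SylB
import Cfsg.Agent.Mrg.Omega.IId.SideOf
import Cfsg.Agent.Lib.GoldschmidtFusion

-- merged: Cfsg.Agent.Mrg.Omega.IId.BigD.Surv.Base
section

section


/-!
# CvBig (ii), `q = 2` (bb OMEGA 21130, helper165): the element `t`

`Sv S Q V v i y g₀` : (SURV): `y ∈ Ω₁Z(Q)` commutes with `⟨W_p : p ∈ V i⟩` and `T = C_S(v i)`, `c = v i * y = v i ^ g₀`.

* `Sv.exists_t` : there is `t ∈ W_c`, `t ∈ N(T) - T`, `t² ∈ T`;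
* `Sv.KT_V`, `Sv.KT_fix` : `W_c ∩ T` centralises `V i` and fixes all `v m`.
-/

set_option autoImplicit false
set_option linter.unusedSectionVars false

namespace Cfsg.Agent.Omega.IId.Surv

open Subgroup Cfsg
open Cfsg.Agent.ZN (o2 zc)
open Cfsg.Agent.MinSimple.VModule (le_o2 le_normalizer_o2 mem_zc o2_isPGroup o2_le)
open Triangle (KK KK_conj KK_le_o2 mem_cent mem_KK mem_zpowers_iff_of_sq cent_conj o2_cent_conj)
open Big (Fr Vo cz qz conj_mem norm_of comm_of_conj conj_of_comm isPGroup_of_sq le_Vo Vo_le cent_of_closure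
  norm_o2 le_o2_of sq_of_closure)
open Big.Syl (YY mem_YY YY_le exists_conj_le)

universe u

variable {G : Type u} [Group G]

/-- (SURV) -/
structure Sv [Finite G] {ι : Type} (S : Sylow 2 G) (Q : Subgroup G) (V : ι → Subgroup G) (v : ι → G) (i : ι)
    (y g₀ : G) : Prop where
  sd : Sd (S : Subgroup G) Q V v
  hy : y ∈ zc Q
  y1 : y ≠ 1
  yX : y ∈ CX V i
  yT : ∀ t ∈ (S : Subgroup G), t * v i = v i * t → t * y = y * t
  gv : g₀ * v i * g₀⁻¹ = v i * y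
  gy : g₀ * y * g₀⁻¹ = y
  gF : g₀ ∈ normalizer ((V i ⊔ zpowers y : Subgroup G) : Set G)

theorem exists_sq {T : Subgroup G} {t₀ : G} (h0 : t₀ ∉ T) (h : ∃ n : ℕ, t₀ ^ 2 ^ n ∈ T) :
    ∃ m : ℕ, t₀ ^ 2 ^ m ∉ T ∧ t₀ ^ 2 ^ m * t₀ ^ 2 ^ m ∈ T := by
  classical
  have hpos : 0 < Nat.find h := by
    rw [Nat.find_pos]
    simpa using h0
  refine ⟨Nat.find h - 1, Nat.find_min h (by omega), ?_⟩
  have h1 := Nat.find_spec h
  rw [← pow_add, ← two_mul, ← pow_succ', Nat.sub_add_cancel hpos]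
  exact h1

namespace Sv

variable [Finite G] {ι : Type} {S : Sylow 2 G} {Q : Subgroup G} {V : ι → Subgroup G} {v : ι → G} {i : ι}
  {y g₀ : G} (h : Sv S Q V v i y g₀)
include h

theorem vy : v i * y = y * v i := h.sd.zq_mul_comm (h.sd.v_zq i) h.hy

theorem cz' : v i * y ∈ zc Q := mul_mem (h.sd.v_zq i) h.hy

theorem cc : v i * y * (v i * y) = 1 := h.sd.zq_sq h.cz'

theorem c_notCX : v i * y ∉ CX V i := fun hc => h.sd.v_notCX i (by
  have h1 := mul_mem hc (inv_mem h.yX)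
  rwa [mul_inv_cancel_right] at h1)

theorem y_notV : y ∉ V i := fun hy => h.y1 (h.sd.eq_one_of_CX hy h.yX)

theorem c_notV : v i * y ∉ V i := fun hc => h.y_notV (by
  have h1 := mul_mem (inv_mem (h.sd.vV i)) hc
  rwa [inv_mul_cancel_left] at h1)

theorem qz_conj {x : G} (hx : x ∈ qz (v i)) : g₀ * x * g₀⁻¹ ∈ qz (v i * y) := by
  have h1 : qz (v i * y) = (qz (v i)).map (MulAut.conj g₀).toMonoidHom := by
    have := o2_cent_conj g₀ (v i)
    rwa [h.gv] at this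
  rw [h1]
  exact ⟨x, hx, rfl⟩

theorem qz_conj' {x : G} (hx : x ∈ qz (v i * y)) : g₀⁻¹ * x * g₀ ∈ qz (v i) := by
  have h1 : qz (v i * y) = (qz (v i)).map (MulAut.conj g₀).toMonoidHom := by
    have := o2_cent_conj g₀ (v i)
    rwa [h.gv] at this
  rw [h1] at hx
  obtain ⟨z, hz, rfl⟩ := hx
  have e : g₀⁻¹ * ((MulAut.conj g₀).toMonoidHom z) * g₀ = z := by
    show g₀⁻¹ * (g₀ * z * g₀⁻¹) * g₀ = z
    group
  rw [e]
  exact hz

theorem KK_conj1 {x : G} (hx : x ∈ KK (v i)) : g₀ * x * g₀⁻¹ ∈ KK (v i * y) := by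
  have h1 := KK_conj (h := g₀) hx
  rwa [h.gv] at h1

theorem KK_conj2 {x : G} (hx : x ∈ KK (v i * y)) : g₀⁻¹ * x * g₀ ∈ KK (v i) := by
  have h1 := KK_conj (h := g₀⁻¹) hx
  have e : g₀⁻¹ * (v i * y) * g₀⁻¹⁻¹ = v i := by rw [← h.gv]; group
  rwa [e, inv_inv] at h1

theorem KKc_le : KK (v i * y) ≤ qz (v i * y) := by
  intro k hk
  have h1 := h.qz_conj (h.sd.fr.KK_le_q (h.sd.vV i) (h.sd.v1 i) (h.KK_conj2 hk))
  have e : g₀ * (g₀⁻¹ * k * g₀) * g₀⁻¹ = k := by group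
  rwa [e] at h1

theorem qzc_y {r : G} (hr : r ∈ qz (v i * y)) : r * y = y * r := by
  have h1 := h.sd.comm_qz (h.sd.vV i) (h.sd.v1 i) h.hy (h.yX (v i) (h.sd.vV i) (h.sd.v1 i)) (h.qz_conj' hr)
  have e : y = g₀⁻¹ * y * g₀ := by
    calc y = g₀⁻¹ * (g₀ * y * g₀⁻¹) * g₀ := by group
      _ = g₀⁻¹ * y * g₀ := by rw [h.gy]
  calc r * y = g₀ * (g₀⁻¹ * r * g₀ * (g₀⁻¹ * y * g₀)) * g₀⁻¹ := by group
    _ = g₀ * (g₀⁻¹ * r * g₀ * y) * g₀⁻¹ := by rw [← e]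
    _ = g₀ * (y * (g₀⁻¹ * r * g₀)) * g₀⁻¹ := by rw [h1]
    _ = (g₀ * y * g₀⁻¹) * r := by group
    _ = y * r := by rw [h.gy]

theorem qzc_v {r : G} (hr : r ∈ qz (v i * y)) : r * v i = v i * r := by
  have h1 : r * (v i * y) = v i * y * r := mem_cent.1 (o2_le _ hr)
  have h2 := h.qzc_y hr
  have h3 : r * v i * y = v i * r * y := by
    calc r * v i * y = r * (v i * y) := by group
      _ = v i * (y * r) := by rw [h1]; group
      _ = v i * r * y := by rw [← h2]; group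
  exact mul_right_cancel h3

/-- the action of `W_c` on `Q_c` -/
theorem act {k x : G} (hk : k ∈ KK (v i * y)) (hx : x ∈ qz (v i * y)) :
    k * x * k⁻¹ = x ∨ k * x * k⁻¹ = v i * y * x := by
  rcases (mem_zpowers_iff_of_sq h.cc).1 ((mem_KK.1 hk).2 x hx) with h1 | h1
  · left; exact mul_inv_eq_one.1 h1
  · right; exact mul_inv_eq_iff_eq_mul.1 h1

theorem F_le : (V i ⊔ zpowers y : Subgroup G) ≤ qz (v i) :=
  sup_le (h.sd.fr.VQ i i _ (h.sd.vV i) (h.sd.v1 i))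
    ((zpowers_le).2 (h.sd.zq_q (h.sd.vV i) (h.sd.v1 i) h.hy))

theorem V_qc : V i ≤ qz (v i * y) := by
  intro e he
  have h1 : g₀⁻¹ * e * g₀ ∈ (V i ⊔ zpowers y : Subgroup G) := by
    have := (mem_normalizer_iff.1 (inv_mem h.gF) e).1 (mem_sup_left he)
    rwa [inv_inv] at this
  have h2 := h.qz_conj (h.F_le h1)
  have e1 : g₀ * (g₀⁻¹ * e * g₀) * g₀⁻¹ = e := by group
  rwa [e1] at h2

omit h in
/-- elements which commute with `c` normalise `W_c` -/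
theorem conjK {x k : G} (hx : x * (v i * y) = v i * y * x) (hk : k ∈ KK (v i * y)) :
    x * k * x⁻¹ ∈ KK (v i * y) := by
  have h1 := KK_conj (h := x) hk
  rwa [conj_of_comm hx] at h1

theorem T_c {x : G} (hx : x ∈ (S : Subgroup G) ⊓ cz (v i)) : x * (v i * y) = v i * y * x := by
  have h1 : x * v i = v i * x := mem_cent.1 hx.2
  calc x * (v i * y) = (x * v i) * y := by group
    _ = v i * (x * y) := by rw [h1]; group
    _ = v i * y * x := by rw [h.yT x hx.1 h1]; group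

theorem zq_c {x : G} (hx : x ∈ zc Q) : x * (v i * y) = v i * y * x := h.sd.zq_mul_comm hx h.cz'

theorem Q_T : Q ≤ (S : Subgroup G) ⊓ cz (v i) := fun q hq =>
  ⟨h.sd.QS hq, mem_cent.2 (h.sd.QV i _ (h.sd.vV i) q hq)⟩

theorem Q_c {q : G} (hq : q ∈ Q) : q * (v i * y) = v i * y * q := h.T_c (h.Q_T hq)

theorem T_V {x e : G} (hx : x ∈ (S : Subgroup G) ⊓ cz (v i)) (he : e ∈ V i) : x * e * x⁻¹ ∈ V i :=
  h.sd.fix_line hx.1 (mem_cent.1 hx.2) he

/-- `W_c ∩ T` centralises `V i` -/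
theorem KT_V {k e : G} (hk : k ∈ KK (v i * y)) (hkT : k ∈ (S : Subgroup G) ⊓ cz (v i)) (he : e ∈ V i) :
    k * e = e * k := by
  rcases h.act hk (h.V_qc he) with h1 | h1
  · exact comm_of_conj h1
  · exfalso
    have h2 := h.T_V hkT he
    rw [h1] at h2
    exact h.c_notV ((mul_mem_cancel_right he).1 h2)

/-- `W_c` is not contained in `T` -/
theorem KK_not_le : ¬ KK (v i * y) ≤ (S : Subgroup G) ⊓ cz (v i) := by
  intro hle
  obtain ⟨e, he, he1, hve⟩ := h.sd.fr.exists_other (i := i) (v i)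
  obtain ⟨a, ha, hae⟩ := h.sd.fr.move (h.sd.vV i) he (h.sd.v1 i) he1 hve
  have hu := h.KK_conj1 ha
  have huT := hle hu
  have h1 : (V i ⊔ zpowers y : Subgroup G) ≤ cz (g₀ * a * g₀⁻¹) :=
    sup_le (fun x hx => mem_cent.2 (h.KT_V hu huT hx).symm)
      ((zpowers_le).2 (mem_cent.2 (h.qzc_y (h.KKc_le hu)).symm))
  have h2 : g₀ * e * g₀⁻¹ ∈ (V i ⊔ zpowers y : Subgroup G) :=
    (mem_normalizer_iff.1 h.gF e).1 (mem_sup_left he)
  have h3 := mem_cent.1 (h1 h2)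
  have h4 : a * e * a⁻¹ = e := by
    calc a * e * a⁻¹ = g₀⁻¹ * ((g₀ * a * g₀⁻¹) * (g₀ * e * g₀⁻¹)) * (g₀ * a⁻¹) := by group
      _ = g₀⁻¹ * ((g₀ * e * g₀⁻¹) * (g₀ * a * g₀⁻¹)) * (g₀ * a⁻¹) := by rw [h3]
      _ = e := by group
  rw [h4] at hae
  exact h.sd.v1 i (mul_eq_right.1 hae.symm)

theorem pow_mem_KK {k : G} (hk : k ∈ KK (v i * y)) : ∃ n : ℕ, k ^ 2 ^ n = 1 := by
  obtain ⟨n, hn⟩ := o2_isPGroup (cz (v i * y)) ⟨k, h.KKc_le hk⟩
  exact ⟨n, by simpa using congrArg Subtype.val hn⟩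

/-- **the element `t`** -/
theorem exists_t : ∃ t ∈ KK (v i * y), t ∉ (S : Subgroup G) ⊓ cz (v i) ∧
    t ∈ normalizer (((S : Subgroup G) ⊓ cz (v i) : Subgroup G) : Set G) ∧
      t * t ∈ (S : Subgroup G) ⊓ cz (v i) := by
  have hf : Fact (Nat.Prime 2) := ⟨Nat.prime_two⟩
  set T : Subgroup G := (S : Subgroup G) ⊓ cz (v i) with hT
  set W : Subgroup G := KK (v i * y) with hW
  have hW2 : IsPGroup 2 W := (o2_isPGroup _).to_le h.KKc_le
  have hT2 : IsPGroup 2 T := S.isPGroup'.to_le inf_le_left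
  have hTW : T ≤ normalizer (W : Set G) := norm_of fun x hx k hk => conjK (h.T_c hx) hk
  set A : Subgroup G := W ⊓ T with hA
  have hlt : A < W := lt_of_le_of_ne inf_le_left fun e => h.KK_not_le (inf_eq_left.1 e)
  have hlt2 := Lib.GoldschmidtFusion.lt_inf_normalizer hW2 hlt
  have hTA : T ≤ normalizer (A : Set G) := norm_of fun x hx k hk =>
    ⟨conj_mem hTW hx hk.1, T.mul_mem (T.mul_mem hx hk.2) (T.inv_mem hx)⟩
  obtain ⟨t₀, ht₀, ht₀A, ht₀T⟩ := SideOf.exists_fixed_mod (T := T) (not_le_of_gt hlt2) inf_le_right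
    (hW2.to_le inf_le_left) hT2 hTA (norm_of fun t ht x hx => ⟨conj_mem hTW ht hx.1,
      mul_mem (mul_mem (hTA ht) hx.2) ((normalizer (A : Set G)).inv_mem (hTA ht))⟩)
  have ht₀n : t₀ ∈ normalizer (T : Set G) := by
    rw [mem_normalizer_iff]
    intro x
    constructor
    · intro hx
      have e : t₀ * x * t₀⁻¹ = (x * t₀ * x⁻¹ * t₀⁻¹)⁻¹ * x := by group
      rw [e]
      exact mul_mem (inv_mem (ht₀T x hx).2) hx
    · intro hx
      have e : x = t₀⁻¹ * ((t₀ * x * t₀⁻¹) * t₀ * (t₀ * x * t₀⁻¹)⁻¹ * t₀⁻¹)  * t₀ * (t₀ * x * t₀⁻¹) := by group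
      have h1 := (ht₀T _ hx)
      have h2 := (mem_normalizer_iff.1 (inv_mem ht₀.2) _).1 h1
      rw [inv_inv] at h2
      rw [e]
      exact mul_mem h2.2 hx
  have ht₀T' : t₀ ∉ T := fun h0 => ht₀A ⟨ht₀.1, h0⟩
  obtain ⟨m, hm, hm2⟩ := exists_sq ht₀T' (by
    obtain ⟨n, hn⟩ := h.pow_mem_KK ht₀.1
    exact ⟨n, by rw [hn]; exact one_mem _⟩)
  exact ⟨t₀ ^ 2 ^ m, pow_mem ht₀.1 _, hm, pow_mem ht₀n _, hm2⟩

/-- **(1)**: `W_c ∩ T` fixes all `v m` -/
theorem KT_fix {k : G} (hk : k ∈ KK (v i * y)) (hkT : k ∈ (S : Subgroup G) ⊓ cz (v i)) (m : ι) :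
    k * v m = v m * k := by
  have hkv : k * v i = v i * k := mem_cent.1 hkT.2
  obtain ⟨m', hm', hvm⟩ := h.sd.perm k hkT.1 m
  by_cases hmm : m' = m
  · subst hmm
    exact comm_of_conj hvm
  exfalso
  have hmi : m ≠ i := by
    rintro rfl
    rw [conj_of_comm hkv] at hvm
    exact hmm (h.sd.v_inj hvm.symm)
  have hmi' : m' ≠ i := by
    rintro rfl
    have h1 : v m = v m' := by
      calc v m = k⁻¹ * (k * v m * k⁻¹) * k := by group
        _ = k⁻¹ * (v m' * k) := by rw [hvm]; group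
        _ = v m' := by rw [← hkv]; group
    exact hmm (h.sd.v_inj h1).symm
  obtain ⟨e, he, he1, hve⟩ := h.sd.fr.exists_other (i := m) (v m)
  obtain ⟨a, ha, hae⟩ := h.sd.fr.move (h.sd.vV m) he (h.sd.v1 m) he1 hve
  have haq := h.sd.fr.KK_le_q (h.sd.vV m) (h.sd.v1 m) ha
  have haT : a ∈ (S : Subgroup G) ⊓ cz (v i) :=
    ⟨h.sd.KS m ha, mem_cent.2 (h.sd.fr.Qc m i hmi.symm _ (h.sd.vV m) (h.sd.v1 m) a haq _ (h.sd.vV i))⟩
  have ha' : k * a * k⁻¹ ∈ KK (v m') := by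
    have := KK_conj (h := k) ha
    rwa [hvm] at this
  have haq' := h.sd.fr.KK_le_q (h.sd.vV m') (h.sd.v1 m') ha'
  have he' : k * e * k⁻¹ ∈ V m' := hm' e he
  have hae' : k * a * k⁻¹ * (k * e * k⁻¹) * (k * a * k⁻¹)⁻¹ = v m' * (k * e * k⁻¹) := by
    calc k * a * k⁻¹ * (k * e * k⁻¹) * (k * a * k⁻¹)⁻¹ = k * (a * e * a⁻¹) * k⁻¹ := by group
      _ = (k * v m * k⁻¹) * (k * e * k⁻¹) := by rw [hae]; group
      _ = v m' * (k * e * k⁻¹) := by rw [hvm]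
  -- the commutators in `W_c`
  have hb : a * (k * a⁻¹ * k⁻¹) ∈ KK (v i * y) := by
    have h1 := mul_mem (conjK (h.T_c haT) hk) (inv_mem hk)
    have e1 : a * k * a⁻¹ * k⁻¹ = a * (k * a⁻¹ * k⁻¹) := by group
    rwa [e1] at h1
  have hx : e * (k * e⁻¹ * k⁻¹) ∈ KK (v i * y) := by
    have h1 := mul_mem (conjK (h.zq_c (h.sd.V_zq m he)) hk) (inv_mem hk)
    have e1 : e * k * e⁻¹ * k⁻¹ = e * (k * e⁻¹ * k⁻¹) := by group
    rwa [e1] at h1
  obtain ⟨a', ea'⟩ : ∃ a', a' = k * a * k⁻¹ := ⟨_, rfl⟩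
  obtain ⟨e', ee'⟩ : ∃ e', e' = k * e * k⁻¹ := ⟨_, rfl⟩
  have e1 : a * (k * a⁻¹ * k⁻¹) = a * a'⁻¹ := by rw [ea']; group
  have e2 : e * (k * e⁻¹ * k⁻¹) = e * e'⁻¹ := by rw [ee']; group
  rw [← ea'] at ha' haq'
  rw [← ee'] at he'
  rw [← ea', ← ee'] at hae'
  rw [e1] at hb
  have hee' : e'⁻¹ = e' := inv_eq_of_mul_eq_one_left (h.sd.fr.sq m' e' he')
  rw [e2, hee'] at hx
  have c1 : a' * e = e * a' := h.sd.fr.Qc m' m (Ne.symm hmm) _ (h.sd.vV m') (h.sd.v1 m') a' haq' e he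
  have c2 : a * e' = e' * a := h.sd.fr.Qc m m' hmm _ (h.sd.vV m) (h.sd.v1 m) a haq e' he'
  have c3 : a * v m' = v m' * a := h.sd.fr.Qc m m' hmm _ (h.sd.vV m) (h.sd.v1 m) a haq _ (h.sd.vV m')
  have c4 : a'⁻¹ * e = e * a'⁻¹ := ((show Commute a' e from c1).inv_left).eq
  have c5 : a'⁻¹ * e' * a' = v m' * e' := by
    have h1 : a' * (v m' * e') * a'⁻¹ = e' := by
      calc a' * (v m' * e') * a'⁻¹ = (a' * v m') * (a'⁻¹ * (a' * e' * a'⁻¹)) := by group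
        _ = (v m' * a') * (a'⁻¹ * (v m' * e')) := by rw [Fr.KK_comm ha', hae']
        _ = (v m' * v m') * e' := by group
        _ = e' := by rw [h.sd.fr.sq m' _ (h.sd.vV m'), one_mul]
    calc a'⁻¹ * e' * a' = a'⁻¹ * (a' * (v m' * e') * a'⁻¹) * a' := by rw [h1]
      _ = v m' * e' := by group
  have hbx : a * a'⁻¹ * (e * e') * (a * a'⁻¹)⁻¹ = v m * v m' * (e * e') := by
    calc a * a'⁻¹ * (e * e') * (a * a'⁻¹)⁻¹ = a * (a'⁻¹ * e) * e' * a' * a⁻¹ := by group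
      _ = a * e * (a'⁻¹ * e' * a') * a⁻¹ := by rw [c4]; group
      _ = (a * e * a⁻¹) * (a * v m' * a⁻¹) * (a * e' * a⁻¹) := by rw [c5]; group
      _ = v m * e * v m' * e' := by rw [hae, conj_of_comm c3, conj_of_comm c2]
      _ = v m * v m' * (e * e') := by
        rw [mul_assoc (v m), h.sd.fr.comm m m' e he _ (h.sd.vV m')]
        simp only [mul_assoc]
  rcases h.act hb (h.KKc_le hx) with h1 | h1
  · rw [hbx] at h1
    have h2 := mul_eq_right.1 h1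
    have h3 : v m = v m' := by
      have h4 := eq_inv_of_mul_eq_one_left h2
      rwa [inv_eq_of_mul_eq_one_left (h.sd.fr.sq m' _ (h.sd.vV m'))] at h4
    exact hmm (h.sd.v_inj h3).symm
  · rw [hbx] at h1
    have h2 := mul_right_cancel h1
    apply h.c_notCX
    rw [← h2]
    exact mul_mem (h.sd.v_CX hmi) (h.sd.v_CX hmi')

end Sv

end Cfsg.Agent.Omega.IId.Surv

end

section


/-!
# CvBig (ii), `q = 2` (bb OMEGA 21130, helper165): (2), (3)

`St … t` : (SURV) with the element `t`; `Sl … t l` : with the index `l`.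

* `Sd.centre` : an element of `S` which acts on `Ω₁Z(Q)` with commutators in `{1, u}` has `u = v m`;
* `St.exists_l` : `Q^t` moves some `V l`;
* `St.three` : then `v l ^ t = c * v l`, `l ≠ i`, and `v l * y` is centralised by all `W_p`;
* `St.exists_sl`.
-/

set_option autoImplicit false
set_option linter.unusedSectionVars false

namespace Cfsg.Agent.Omega.IId.Surv

open Subgroup Cfsg
open Cfsg.Agent.ZN (o2 zc)
open Cfsg.Agent.MinSimple.VModule (le_o2 le_normalizer_o2 mem_zc o2_isPGroup o2_le normalizer_le_normalizer_zc)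
open Triangle (KK KK_conj KK_le_o2 mem_cent mem_KK mem_zpowers_iff_of_sq cent_conj o2_cent_conj)
open Big (Fr Vo cz qz conj_mem norm_of comm_of_conj conj_of_comm isPGroup_of_sq le_Vo Vo_le cent_of_closure
  norm_o2 le_o2_of sq_of_closure)
open Big.Syl (YY mem_YY YY_le exists_conj_le)

universe u

variable {G : Type u} [Group G]

/-- the centre of an element of `S` acting on `Ω₁Z(Q)` with commutators in `{1, u}` -/
theorem Sd.centre [Finite G] {ι : Type} {S Q : Subgroup G} {V : ι → Subgroup G} {v : ι → G} (h : Sd S Q V v)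
    {s u : G} (hs : s ∈ S) (hu : ∀ z ∈ zc Q, s * z * s⁻¹ = z ∨ s * z * s⁻¹ = u * z)
    (hne : ∃ z ∈ zc Q, s * z * s⁻¹ ≠ z) : ∃ m, u = v m := by
  by_cases hfix : ∀ j, s * v j = v j * s
  · -- `s` normalises all `V j`
    by_contra hcon
    push Not at hcon
    obtain ⟨z, hz, hzs⟩ := hne
    apply hzs
    refine conj_of_comm (h.SY s hs (fun j x hx => ?_) z hz)
    rcases h.fix_act hs (hfix j) hx with h1 | h1
    · exact comm_of_conj h1
    · rcases hu x (h.V_zq j hx) with h2 | h2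
      · exact comm_of_conj h2
      · exact absurd (mul_right_cancel (h2.symm.trans h1)) (hcon j)
  · exfalso
    push Not at hfix
    obtain ⟨j, hj⟩ := hfix
    obtain ⟨j', hj', hvj⟩ := h.perm s hs j
    have hjj : j ≠ j' := by
      rintro rfl
      exact hj (comm_of_conj hvj)
    have h1 : v j' = u * v j := by
      rcases hu (v j) (h.v_zq j) with h1 | h1
      · exact absurd (comm_of_conj h1) hj
      · rw [← hvj, h1]
    obtain ⟨e, he, he1, hve⟩ := h.fr.exists_other (i := j) (v j)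
    have he' := hj' e he
    rcases hu e (h.V_zq j he) with h2 | h2
    · rw [h2] at he'
      exact he1 (h.fr.disj hjj he he')
    · rw [h2] at he'
      have h3 : u = v j' * v j := by
        rw [h1, mul_assoc, h.fr.sq j _ (h.vV j), mul_one]
      rw [h3, mul_assoc, mul_mem_cancel_left (h.vV j')] at he'
      have h4 := h.fr.disj hjj (mul_mem (h.vV j) he) he'
      have h5 := eq_inv_of_mul_eq_one_left h4
      rw [inv_eq_of_mul_eq_one_left (h.fr.sq j e he)] at h5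
      exact hve h5

/-- (SURV) with the element `t` -/
structure St [Finite G] {ι : Type} (S : Sylow 2 G) (Q : Subgroup G) (V : ι → Subgroup G) (v : ι → G) (i : ι)
    (y g₀ t : G) : Prop extends Sv S Q V v i y g₀ where
  tK : t ∈ KK (v i * y)
  tT : t ∉ (S : Subgroup G) ⊓ cz (v i)
  tn : t ∈ normalizer (((S : Subgroup G) ⊓ cz (v i) : Subgroup G) : Set G)
  tt : t * t ∈ (S : Subgroup G) ⊓ cz (v i)

namespace St

variable [Finite G] {ι : Type} {S : Sylow 2 G} {Q : Subgroup G} {V : ι → Subgroup G} {v : ι → G} {i : ι}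
  {y g₀ t : G} (h : St S Q V v i y g₀ t)
include h

theorem tq : t ∈ qz (v i * y) := h.KKc_le h.tK

theorem t_v : t * v i = v i * t := h.qzc_v h.tq

theorem t_y : t * y = y * t := h.qzc_y h.tq

theorem t_c : t * (v i * y) = v i * y * t := (mem_KK.1 h.tK).1

theorem tT1 {x : G} (hx : x ∈ (S : Subgroup G) ⊓ cz (v i)) : t * x * t⁻¹ ∈ (S : Subgroup G) ⊓ cz (v i) :=
  (mem_normalizer_iff.1 h.tn x).1 hx

theorem tT2 {x : G} (hx : x ∈ (S : Subgroup G) ⊓ cz (v i)) : t⁻¹ * x * t ∈ (S : Subgroup G) ⊓ cz (v i) := by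
  have := (mem_normalizer_iff.1 (inv_mem h.tn) x).1 hx
  rwa [inv_inv] at this

/-- the element `κ_q = [t, q]` of `W_c ∩ T` -/
theorem kap {q : G} (hq : q ∈ Q) :
    t * q * t⁻¹ * q⁻¹ ∈ KK (v i * y) ∧ t * q * t⁻¹ * q⁻¹ ∈ (S : Subgroup G) ⊓ cz (v i) := by
  refine ⟨?_, mul_mem (h.tT1 (h.Q_T hq)) (inv_mem (h.Q_T hq))⟩
  have e : t * q * t⁻¹ * q⁻¹ = t * (q * t⁻¹ * q⁻¹) := by group
  rw [e]
  exact mul_mem h.tK (Sv.conjK (h.Q_c hq) (inv_mem h.tK))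

/-- `κ ∈ W_c ∩ T` acts on `V j` as `1` or `x ↦ v j * x` -/
theorem k_act {k : G} (hk : k ∈ KK (v i * y)) (hkT : k ∈ (S : Subgroup G) ⊓ cz (v i)) {j : ι} {x : G}
    (hx : x ∈ V j) : k * x * k⁻¹ = x ∨ k * x * k⁻¹ = v j * x :=
  h.sd.fix_act hkT.1 (h.KT_fix hk hkT j) hx

/-- `Q^t` commutes with `z` ⇒ `z^(t⁻¹) ∈ Ω₁Z(Q)` -/
theorem conj_zq {z : G} (hz : z ∈ zc Q) (hq : ∀ q ∈ Q, t * q * t⁻¹ * z = z * (t * q * t⁻¹)) :
    t⁻¹ * z * t ∈ zc Q := by
  refine h.sd.mem_zq (fun q hqQ => ?_) ?_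
  · have h1 := hq q hqQ
    calc q * (t⁻¹ * z * t) = t⁻¹ * ((t * q * t⁻¹) * z) * t := by group
      _ = t⁻¹ * z * t * q := by rw [h1]; group
  · calc t⁻¹ * z * t * (t⁻¹ * z * t) = t⁻¹ * (z * z) * t := by group
      _ = 1 := by rw [h.sd.zq_sq hz]; group

/-- `Q^t` commutes with `z` if all `κ_q` do -/
theorem conj_zq' {z : G} (hz : z ∈ zc Q) (hq : ∀ q ∈ Q, t * q * t⁻¹ * q⁻¹ * z = z * (t * q * t⁻¹ * q⁻¹)) :
    t⁻¹ * z * t ∈ zc Q := by
  refine h.conj_zq hz fun q hqQ => ?_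
  calc t * q * t⁻¹ * z = (t * q * t⁻¹ * q⁻¹) * (q * z) := by group
    _ = ((t * q * t⁻¹ * q⁻¹) * z) * q := by rw [h.sd.zq_comm hz hqQ]; group
    _ = z * (t * q * t⁻¹) := by rw [hq q hqQ]; group

theorem S_zq {s z : G} (hs : s ∈ (S : Subgroup G)) (hz : z ∈ zc Q) : s * z * s⁻¹ ∈ zc Q :=
  conj_mem (h.sd.SQ.trans (normalizer_le_normalizer_zc Q)) hs hz

/-- `t * z * t⁻¹ ∈ Ω₁Z(Q)` if `t⁻¹ * z * t ∈ Ω₁Z(Q)` -/
theorem swap {z : G} (hz : t⁻¹ * z * t ∈ zc Q) : t * z * t⁻¹ ∈ zc Q := by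
  have h1 := h.S_zq h.tt.1 hz
  have e : t * t * (t⁻¹ * z * t) * (t * t)⁻¹ = t * z * t⁻¹ := by group
  rwa [e] at h1

theorem swap' {z : G} (hz : t * z * t⁻¹ ∈ zc Q) : t⁻¹ * z * t ∈ zc Q := by
  have h1 := h.S_zq (inv_mem h.tt.1) hz
  have e : (t * t)⁻¹ * (t * z * t⁻¹) * (t * t)⁻¹⁻¹ = t⁻¹ * z * t := by group
  rwa [e] at h1

/-- **(2)**: `Q^t` moves some `V l`. -/
theorem exists_l : ∃ q ∈ Q, ∃ l, ∃ e ∈ V l,
    t * q * t⁻¹ * q⁻¹ * e * (t * q * t⁻¹ * q⁻¹)⁻¹ = v l * e := by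
  by_contra hcon
  push Not at hcon
  have h1 : ∀ z ∈ zc Q, t⁻¹ * z * t ∈ zc Q := by
    intro z hz
    refine h.conj_zq' hz fun q hq => ?_
    refine h.sd.SY _ (h.kap hq).2.1 (fun j x hx => ?_) z hz
    rcases h.k_act (h.kap hq).1 (h.kap hq).2 hx with h2 | h2
    · exact comm_of_conj h2
    · exact absurd h2 (hcon q hq j x hx)
  have h1' : ∀ z ∈ zc Q, t * z * t⁻¹ ∈ zc Q := fun z hz => h.swap (h1 z hz)
  -- `t` permutes the `v l`
  have h2 : ∀ l, ∃ m, t * v l * t⁻¹ = v m := by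
    intro l
    obtain ⟨e, he, he1, hve⟩ := h.sd.fr.exists_other (i := l) (v l)
    obtain ⟨a, ha, hae⟩ := h.sd.fr.move (h.sd.vV l) he (h.sd.v1 l) he1 hve
    have haT : a ∈ (S : Subgroup G) ⊓ cz (v i) := by
      refine ⟨h.sd.KS l ha, mem_cent.2 ?_⟩
      by_cases hli : l = i
      · subst hli
        exact Fr.KK_comm ha
      · exact h.sd.fr.Qc l i (Ne.symm hli) _ (h.sd.vV l) (h.sd.v1 l) a
          (h.sd.fr.KK_le_q (h.sd.vV l) (h.sd.v1 l) ha) _ (h.sd.vV i)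
    refine h.sd.centre (s := t * a * t⁻¹) (h.tT1 haT).1 (fun z hz => ?_) ⟨t * e * t⁻¹, h1' e (h.sd.V_zq l he), ?_⟩
    · rcases h.sd.zq_act (h.sd.vV l) (h.sd.v1 l) ha (h1 z hz) with h3 | h3
      · left
        calc t * a * t⁻¹ * z * (t * a * t⁻¹)⁻¹ = t * (a * (t⁻¹ * z * t) * a⁻¹) * t⁻¹ := by group
          _ = z := by rw [h3]; group
      · right
        calc t * a * t⁻¹ * z * (t * a * t⁻¹)⁻¹ = t * (a * (t⁻¹ * z * t) * a⁻¹) * t⁻¹ := by group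
          _ = t * v l * t⁻¹ * z := by rw [h3]; group
    · intro h3
      have h4 : a * e * a⁻¹ = e := by
        calc a * e * a⁻¹ = t⁻¹ * (t * a * t⁻¹ * (t * e * t⁻¹) * (t * a * t⁻¹)⁻¹) * t := by group
          _ = e := by rw [h3]; group
      rw [h4] at hae
      exact h.sd.v1 l (mul_eq_right.1 hae.symm)
  have h3 : t ∈ LL v := by
    refine mem_LL.2 ⟨h2, fun l => ?_⟩
    obtain ⟨m, -, hm⟩ := h.sd.perm (t * t)⁻¹ (inv_mem h.tt.1) l
    obtain ⟨n, hn⟩ := h2 m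
    refine ⟨n, ?_⟩
    calc t⁻¹ * v l * t = t * ((t * t)⁻¹ * v l * (t * t)⁻¹⁻¹) * t⁻¹ := by group
      _ = v n := by rw [hm, hn]
  have hT2 : IsPGroup 2 ((S : Subgroup G) ⊓ cz (v i) : Subgroup G) := S.isPGroup'.to_le inf_le_left
  have hz2 : IsPGroup 2 (zpowers t) := (o2_isPGroup (cz (v i * y))).to_le ((zpowers_le).2 h.tq)
  have h4 := h.sd.kp i (X := zpowers t ⊔ ((S : Subgroup G) ⊓ cz (v i)))
    (IsPGroup.to_sup_of_normal_right' hz2 hT2 ((zpowers_le).2 h.tn))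
    (sup_le ((zpowers_le).2 (mem_cent.2 h.t_v)) inf_le_right) le_sup_right
    (sup_le ((zpowers_le).2 h3) (inf_le_left.trans h.sd.S_LL))
  exact h.tT (h4 (mem_sup_left (mem_zpowers t)))

/-- **(3)** -/
theorem three {q : G} (hq : q ∈ Q) {l : ι} {e : G} (he : e ∈ V l)
    (hke : t * q * t⁻¹ * q⁻¹ * e * (t * q * t⁻¹ * q⁻¹)⁻¹ = v l * e) :
    l ≠ i ∧ t⁻¹ * v l * t = v i * y * v l ∧ ∀ j, v l * y ∈ CX V j := by
  obtain ⟨hk, hkT⟩ := h.kap hq
  have hvl1 := h.sd.v1 l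
  have hvl := h.sd.vV l
  have hli : l ≠ i := by
    rintro rfl
    rw [conj_of_comm (h.KT_V hk hkT he)] at hke
    exact hvl1 (mul_eq_right.1 hke.symm)
  -- LEMMA 1'
  have hti : t⁻¹ * v i = v i * t⁻¹ := ((show Commute t (v i) from h.t_v).inv_left).eq
  have hf : t⁻¹ * e * t ∈ zc (qz (v i)) := by
    have h1 := h.sd.zc_conj hti (h.sd.V_le_zc hli (h.sd.vV i) (h.sd.v1 i) he)
    rwa [inv_inv] at h1
  have hw1 : t⁻¹ * v l * t ≠ 1 := fun h0 => hvl1 (by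
    calc v l = t * (t⁻¹ * v l * t) * t⁻¹ := by group
      _ = 1 := by rw [h0]; group)
  have hQ : ∀ q' ∈ Q, q' * (t⁻¹ * e * t) * q'⁻¹ = t⁻¹ * e * t ∨
      q' * (t⁻¹ * e * t) * q'⁻¹ = t⁻¹ * v l * t * (t⁻¹ * e * t) := by
    intro q' hq'
    have e1 : q' * (t⁻¹ * e * t) * q'⁻¹ = t⁻¹ * ((t * q' * t⁻¹ * q'⁻¹) * (q' * e * q'⁻¹) *
        (t * q' * t⁻¹ * q'⁻¹)⁻¹) * t := by group
    rw [e1, conj_of_comm (h.sd.QV l e he q' hq')]
    rcases h.k_act (h.kap hq').1 (h.kap hq').2 he with h1 | h1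
    · left; rw [h1]
    · right; rw [h1]; group
  have hex : ∃ q' ∈ Q, q' * (t⁻¹ * e * t) * q'⁻¹ = t⁻¹ * v l * t * (t⁻¹ * e * t) := by
    refine ⟨q, hq, ?_⟩
    have e1 : q * (t⁻¹ * e * t) * q⁻¹ = t⁻¹ * ((t * q * t⁻¹ * q⁻¹) * (q * e * q⁻¹) *
        (t * q * t⁻¹ * q⁻¹)⁻¹) * t := by group
    rw [e1, conj_of_comm (h.sd.QV l e he q hq), hke]
    group
  obtain ⟨hwz, hwX⟩ := h.sd.one' hf hw1 hQ hex
  -- `v l ∈ W_c`
  have hvK : v l ∈ KK (v i * y) := by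
    have h1 : v l = (t * q * t⁻¹ * q⁻¹) * (e * (t * q * t⁻¹ * q⁻¹)⁻¹ * e⁻¹) := by
      calc v l = v l * e * e⁻¹ := by group
        _ = _ := by rw [← hke]; group
    rw [h1]
    exact mul_mem hk (Sv.conjK (h.zq_c (h.sd.V_zq l he)) (inv_mem hk))
  have htw : t⁻¹ * v l * t = v i * y * v l := by
    rcases h.act hvK h.tq with h1 | h1
    · exfalso
      have h2 : t⁻¹ * v l * t = v l := by
        rw [mul_assoc, comm_of_conj h1]
        group
      rw [h2] at hwX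
      exact h.sd.v_notCX l (hwX l hli)
    · have h2 : v l * t = v i * y * t * v l := by
        calc v l * t = (v l * t * (v l)⁻¹) * v l := by group
          _ = v i * y * t * v l := by rw [h1]
      calc t⁻¹ * v l * t = t⁻¹ * (v l * t) := by group
        _ = t⁻¹ * ((v i * y * t) * v l) := by rw [h2]
        _ = t⁻¹ * ((t * (v i * y)) * v l) := by rw [h.t_c]
        _ = v i * y * v l := by group
  refine ⟨hli, htw, fun j => ?_⟩
  by_cases hji : j = i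
  · subst hji
    exact mul_mem (h.sd.v_CX hli) h.yX
  · have h1 : v l * y = v i * (t⁻¹ * v l * t) := by
      have h2 : y * v l = v l * y := h.sd.zq_mul_comm h.hy (h.sd.v_zq l)
      rw [htw]
      calc v l * y = y * v l := h2.symm
        _ = (v i * v i) * y * v l := by rw [h.sd.fr.sq i _ (h.sd.vV i), one_mul]
        _ = v i * (v i * y * v l) := by group
    rw [h1]
    exact mul_mem (h.sd.v_CX (Ne.symm hji)) (hwX j hji)

end St

/-- (SURV) with the element `t` and the index `l` -/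
structure Sl [Finite G] {ι : Type} (S : Sylow 2 G) (Q : Subgroup G) (V : ι → Subgroup G) (v : ι → G) (i : ι)
    (y g₀ t : G) (l : ι) : Prop extends St S Q V v i y g₀ t where
  li : l ≠ i
  dX : ∀ j, v l * y ∈ CX V j
  tl : t⁻¹ * v l * t = v i * y * v l
  k0 : ∃ q ∈ Q, ∃ e ∈ V l, t * q * t⁻¹ * q⁻¹ * e * (t * q * t⁻¹ * q⁻¹)⁻¹ = v l * e
  kj : ∀ q ∈ Q, ∀ j, j ≠ l → ∀ x ∈ V j, t * q * t⁻¹ * q⁻¹ * x = x * (t * q * t⁻¹ * q⁻¹)

theorem St.exists_sl [Finite G] {ι : Type} {S : Sylow 2 G} {Q : Subgroup G} {V : ι → Subgroup G} {v : ι → G}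
    {i : ι} {y g₀ t : G} (h : St S Q V v i y g₀ t) : ∃ l, Sl S Q V v i y g₀ t l := by
  obtain ⟨q, hq, l, e, he, hke⟩ := h.exists_l
  obtain ⟨hli, htl, hd⟩ := h.three hq he hke
  refine ⟨l, { h with li := hli, dX := hd, tl := htl, k0 := ⟨q, hq, e, he, hke⟩, kj := ?_ }⟩
  intro q' hq' j hjl x hx
  rcases h.k_act (h.kap hq').1 (h.kap hq').2 hx with h1 | h1
  · exact comm_of_conj h1
  · exfalso
    obtain ⟨-, -, hd'⟩ := h.three hq' hx h1
    have h2 : v l ∈ CX V l := by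
      have h3 : v l = (v l * y) * (v j * y)⁻¹ * v j := by group
      rw [h3]
      exact mul_mem (mul_mem (hd l) (inv_mem (hd' l))) (h.sd.v_CX hjl)
    exact h.sd.v_notCX l h2

end Cfsg.Agent.Omega.IId.Surv

end

end

-- merged: Cfsg.Agent.Mrg.Omega.IId.BigD.Surv.End
section

/-!
# CvBig (ii), `q = 2` (bb OMEGA 21130, helper165): (4), (5), (6)

* `Sl.te` : (4) `t` acts on `V i` as `e ↦ c * e`; `Sl.Yt_act` : `t` acts on `Yt = Ω₁Z(Q Q^t)` as a transvection with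
  centre `c`;
* `Sl.tvj` : (5) `t` centralises `v j`, `j ≠ l`; `Sl.t_S0` : `t` normalises `S⁰`;
* `Sl.exists_s` : (6) the transposition `s = (i l)` of `S`;
* `Sl.false` : the contradiction; **`Sv.false`** : (SURV) is impossible.
-/

set_option autoImplicit false
set_option linter.unusedSectionVars false

namespace Cfsg.Agent.Omega.IId.Surv

open Subgroup Cfsg
open Cfsg.Agent.ZN (o2 zc)
open Cfsg.Agent.MinSimple.VModule (le_o2 le_normalizer_o2 mem_zc o2_isPGroup o2_le normalizer_le_normalizer_zc)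
open Triangle (KK KK_conj KK_le_o2 mem_cent mem_KK mem_zpowers_iff_of_sq cent_conj o2_cent_conj)
open Big (Fr Vo cz qz conj_mem norm_of comm_of_conj conj_of_comm isPGroup_of_sq le_Vo Vo_le cent_of_closure
  norm_o2 le_o2_of sq_of_closure)
open Big.Syl (YY mem_YY YY_le exists_conj_le)

universe u

variable {G : Type u} [Group G]

theorem qz_cj (g : G) {p x : G} (hx : x ∈ qz p) : g * x * g⁻¹ ∈ qz (g * p * g⁻¹) := by
  have h1 : qz (g * p * g⁻¹) = (qz p).map (MulAut.conj g).toMonoidHom := o2_cent_conj g p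
  rw [h1]
  exact ⟨x, hx, rfl⟩

/-- `Yt = Ω₁Z(Q) ∩ Ω₁Z(Q)^t` -/
def Yt (Q : Subgroup G) (t : G) : Subgroup G := zc Q ⊓ (zc Q).comap (MulAut.conj t⁻¹).toMonoidHom

theorem mem_Yt {Q : Subgroup G} {t z : G} : z ∈ Yt Q t ↔ z ∈ zc Q ∧ t⁻¹ * z * t ∈ zc Q := by
  have e : (MulAut.conj t⁻¹).toMonoidHom z = t⁻¹ * z * t := by
    show t⁻¹ * z * t⁻¹⁻¹ = _
    rw [inv_inv]
  rw [Yt, mem_inf, mem_comap, e]

/-- `S⁰` -/
def S0 {ι : Type} (S : Subgroup G) (v : ι → G) : Subgroup G := S ⊓ centralizer (Set.range v)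

theorem mem_S0 {ι : Type} {S : Subgroup G} {v : ι → G} {x : G} :
    x ∈ S0 S v ↔ x ∈ S ∧ ∀ j, x * v j = v j * x := by
  rw [S0, mem_inf, mem_centralizer_iff]
  refine and_congr_right fun _ => ⟨fun h j => (h _ ⟨j, rfl⟩).symm, ?_⟩
  rintro h _ ⟨j, rfl⟩
  exact (h j).symm

/-- `D⁰ = Ω₁Z(S⁰) ∩ D^` -/
def D0 {ι : Type} (S : Subgroup G) (V : ι → Subgroup G) (v : ι → G) : Subgroup G := zc (S0 S v) ⊓ ⨅ j, CX V j

theorem mem_D0 {ι : Type} {S : Subgroup G} {V : ι → Subgroup G} {v : ι → G} {x : G} :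
    x ∈ D0 S V v ↔ x ∈ zc (S0 S v) ∧ ∀ j, x ∈ CX V j := by
  rw [D0, mem_inf, mem_iInf]

/-- an element of `S` which acts on the `V j` as `1`, `j ≠ l`, and fixes `v l`, acts on `Ω₁Z(Q)` as `1` or `a` -/
theorem Sd.two_case [Finite G] {ι : Type} {S Q : Subgroup G} {V : ι → Subgroup G} {v : ι → G} (h : Sd S Q V v)
    {l : ι} {k a e : G} (hk : k ∈ S) (hkl : k * v l = v l * k) (hkj : ∀ j, j ≠ l → ∀ x ∈ V j, k * x = x * k)
    (ha : a ∈ KK (v l)) (he : e ∈ V l) (he1 : e ≠ 1) (hve : v l ≠ e) (hae : a * e * a⁻¹ = v l * e) :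
    (∀ z ∈ zc Q, k * z = z * k) ∨ ∀ z ∈ zc Q, a⁻¹ * k * z = z * (a⁻¹ * k) := by
  have hal : a * v l = v l * a := Fr.KK_comm ha
  have haj : ∀ j, j ≠ l → ∀ x ∈ V j, a * x = x * a := fun j hj x hx =>
    h.fr.Qc l j hj _ (h.vV l) (h.v1 l) a (h.fr.KK_le_q (h.vV l) (h.v1 l) ha) x hx
  rcases h.fix_act hk hkl he with h1 | h1
  · left
    refine fun z hz => h.SY k hk (fun j x hx => ?_) z hz
    by_cases hj : j = l
    · subst hj
      exact h.fixV (h.vV j) (h.v1 j) he he1 hve hkl (comm_of_conj h1) hx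
    · exact hkj j hj x hx
  · right
    refine fun z hz => h.SY _ (mul_mem (inv_mem (h.KS l ha)) hk) (fun j x hx => ?_) z hz
    by_cases hj : j = l
    · subst hj
      refine h.fixV (h.vV j) (h.v1 j) he he1 hve ?_ (comm_of_conj ?_) hx
      · calc a⁻¹ * k * v j = a⁻¹ * (v j * k) := by rw [mul_assoc, hkl]
          _ = v j * (a⁻¹ * k) := by
            rw [← mul_assoc, ((show Commute a (v j) from hal).inv_left).eq, mul_assoc]
      · calc a⁻¹ * k * e * (a⁻¹ * k)⁻¹ = a⁻¹ * (k * e * k⁻¹) * a := by group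
          _ = a⁻¹ * (a * e * a⁻¹) * a := by rw [h1, hae]
          _ = e := by group
    · calc a⁻¹ * k * x = a⁻¹ * (x * k) := by rw [mul_assoc, hkj j hj x hx]
        _ = x * (a⁻¹ * k) := by
          rw [← mul_assoc, ((show Commute a x from haj j hj x hx).inv_left).eq, mul_assoc]

namespace Sl

variable [Finite G] {ι : Type} {S : Sylow 2 G} {Q : Subgroup G} {V : ι → Subgroup G} {v : ι → G} {i : ι}
  {y g₀ t : G} {l : ι} (h : Sl S Q V v i y g₀ t l)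
include h

theorem c_eq : v i * y * v l = v i * (v l * y) := by
  rw [mul_assoc, h.sd.zq_mul_comm h.hy (h.sd.v_zq l)]

theorem tl' : t * v l * t⁻¹ = v i * y * v l := by
  have h1 : v l = v i * y * (t * v l * t⁻¹) := by
    calc v l = t * (t⁻¹ * v l * t) * t⁻¹ := by group
      _ = (t * (v i * y)) * v l * t⁻¹ := by rw [h.tl]; group
      _ = v i * y * (t * v l * t⁻¹) := by rw [h.t_c]; group
  calc t * v l * t⁻¹ = (v i * y * (v i * y)) * (t * v l * t⁻¹) := by rw [h.cc, one_mul]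
    _ = v i * y * (v i * y * (t * v l * t⁻¹)) := by group
    _ = v i * y * v l := by rw [← h1]

/-- `T` fixes `l` -/
theorem T_l {s : G} (hs : s ∈ (S : Subgroup G) ⊓ cz (v i)) : s * v l = v l * s := by
  obtain ⟨m, -, hm⟩ := h.sd.perm s hs.1 l
  by_cases hml : m = l
  · subst hml
    exact comm_of_conj hm
  exfalso
  have hsy : s * y * s⁻¹ = y := conj_of_comm (h.yT s hs.1 (mem_cent.1 hs.2))
  have h1 := h.sd.CX_conj hs.1 h.dX l
  have h2 : s * (v l * y) * s⁻¹ = v m * y := by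
    calc s * (v l * y) * s⁻¹ = (s * v l * s⁻¹) * (s * y * s⁻¹) := by group
      _ = v m * y := by rw [hm, hsy]
  rw [h2] at h1
  have h3 : v l = (v l * y) * (v m * y)⁻¹ * v m := by group
  apply h.sd.v_notCX l
  rw [h3]
  exact mul_mem (mul_mem (h.dX l) (inv_mem h1)) (h.sd.v_CX hml)

theorem y_notCX : y ∉ CX V l := fun hc => h.sd.v_notCX l (by
  have h1 := mul_mem (h.dX l) (inv_mem hc)
  rwa [mul_inv_cancel_right] at h1)

theorem T_d {s : G} (hs : s ∈ (S : Subgroup G) ⊓ cz (v i)) : s * (v l * y) = v l * y * s := by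
  calc s * (v l * y) = (s * v l) * y := by group
    _ = v l * (s * y) := by rw [h.T_l hs]; group
    _ = v l * y * s := by rw [h.yT s hs.1 (mem_cent.1 hs.2)]; group

/-- **(4)**: `t` acts on `V i` as `e ↦ c * e`. -/
theorem te {e : G} (he : e ∈ V i) (he1 : e ≠ 1) (hve : v i ≠ e) : t * e * t⁻¹ = v i * y * e := by
  rcases h.act h.tK (h.V_qc he) with h1 | h1
  swap
  · exact h1
  exfalso
  obtain ⟨r, hr, hrv⟩ := h.sd.fr.move he (h.sd.vV i) he1 (h.sd.v1 i) (Ne.symm hve)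
  have hr' : t⁻¹ * r * t ∈ KK e := by
    have h2 := KK_conj (h := t⁻¹) hr
    have e1 : t⁻¹ * e * t⁻¹⁻¹ = e := by
      calc t⁻¹ * e * t⁻¹⁻¹ = t⁻¹ * (t * e * t⁻¹) * t := by rw [h1]; group
        _ = e := by group
    rwa [e1, inv_inv] at h2
  have h2 : t⁻¹ * r * t * v l = v l * (t⁻¹ * r * t) :=
    h.sd.fr.Qc i l h.li e he he1 _ (h.sd.fr.KK_le_q he he1 hr') _ (h.sd.vV l)
  have h3 : r * (v i * (v l * y)) = v i * (v l * y) * r := by
    rw [← h.c_eq, ← h.tl']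
    calc r * (t * v l * t⁻¹) = t * ((t⁻¹ * r * t) * v l) * t⁻¹ := by group
      _ = t * v l * t⁻¹ * r := by rw [h2]; group
  have h4 : r * (v l * y) = v l * y * r := h.dX i e he he1 r hr
  have h5 : r * v i = v i * r := by
    have h6 : r * v i * (v l * y) = v i * r * (v l * y) := by
      calc r * v i * (v l * y) = r * (v i * (v l * y)) := by group
        _ = v i * ((v l * y) * r) := by rw [h3]; group
        _ = v i * r * (v l * y) := by rw [← h4]; group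
    exact mul_right_cancel h6
  rw [conj_of_comm h5] at hrv
  exact he1 (mul_eq_right.1 hrv.symm)

/-! #### `Yt` -/

theorem Yt_t {z : G} (hz : z ∈ Yt Q t) : t * z * t⁻¹ ∈ Yt Q t := by
  obtain ⟨h1, h2⟩ := mem_Yt.1 hz
  refine mem_Yt.2 ⟨h.swap h2, ?_⟩
  have e : t⁻¹ * (t * z * t⁻¹) * t = z := by group
  rwa [e]

theorem Yt_t' {z : G} (hz : z ∈ Yt Q t) : t⁻¹ * z * t ∈ Yt Q t := by
  obtain ⟨h1, h2⟩ := mem_Yt.1 hz
  refine mem_Yt.2 ⟨h2, h.swap' ?_⟩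
  have e : t * (t⁻¹ * z * t) * t⁻¹ = z := by group
  rwa [e]

theorem mem_Yt_of {z : G} (hz : z ∈ zc Q) (ha : ∀ a ∈ KK (v l), a * z = z * a) : z ∈ Yt Q t := by
  refine mem_Yt.2 ⟨hz, h.conj_zq' hz fun q hq => ?_⟩
  obtain ⟨e, he, he1, hve⟩ := h.sd.fr.exists_other (i := l) (v l)
  obtain ⟨a, haK, hae⟩ := h.sd.fr.move (h.sd.vV l) he (h.sd.v1 l) he1 hve
  rcases h.sd.two_case (h.kap hq).2.1 (h.KT_fix (h.kap hq).1 (h.kap hq).2 l) (h.kj q hq) haK he he1 hve hae with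
    h1 | h1
  · exact h1 z hz
  · have h2 := ha a haK
    calc t * q * t⁻¹ * q⁻¹ * z = a * (a⁻¹ * (t * q * t⁻¹ * q⁻¹) * z) := by group
      _ = (a * z) * (a⁻¹ * (t * q * t⁻¹ * q⁻¹)) := by rw [h1 z hz]; group
      _ = z * (t * q * t⁻¹ * q⁻¹) := by rw [h2]; group

theorem Yt_comm {z a : G} (hz : z ∈ Yt Q t) (ha : a ∈ KK (v l)) : a * z = z * a := by
  obtain ⟨h1, h2⟩ := mem_Yt.1 hz
  obtain ⟨q, hq, e, he, hke⟩ := h.k0
  have hk := h.kap hq
  obtain ⟨k, ek⟩ : ∃ k, k = t * q * t⁻¹ * q⁻¹ := ⟨_, rfl⟩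
  have hkz : k * z = z * k := by
    have h3 := h.sd.zq_comm h2 hq
    rw [ek]
    calc t * q * t⁻¹ * q⁻¹ * z = t * q * t⁻¹ * (q⁻¹ * z) := by group
      _ = t * (q * (t⁻¹ * z * t)) * t⁻¹ * q⁻¹ := by
        rw [((show Commute q z from h.sd.zq_comm h1 hq).inv_left).eq]; group
      _ = z * (t * q * t⁻¹ * q⁻¹) := by rw [h3]; group
  rw [← ek] at hke hk
  have hkl := h.KT_fix hk.1 hk.2 l
  have he1 : e ≠ 1 := by
    rintro rfl
    rw [mul_one, mul_one, mul_inv_cancel] at hke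
    exact h.sd.v1 l hke.symm
  have hve : v l ≠ e := by
    rintro rfl
    rw [conj_of_comm hkl] at hke
    exact h.sd.v1 l (mul_eq_right.1 hke.symm)
  have haS := h.sd.KS l ha
  have hal : a * v l = v l * a := Fr.KK_comm ha
  rcases h.sd.fix_act haS hal he with h3 | h3
  · refine h.sd.SY a haS (fun j x hx => ?_) z h1
    by_cases hj : j = l
    · subst hj
      exact h.sd.fixV (h.sd.vV j) (h.sd.v1 j) he he1 hve hal (comm_of_conj h3) hx
    · exact h.sd.fr.Qc l j hj _ (h.sd.vV l) (h.sd.v1 l) a (h.sd.fr.KK_le_q (h.sd.vV l) (h.sd.v1 l) ha) x hx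
  · rcases h.sd.two_case hk.2.1 hkl (by rw [ek]; exact h.kj q hq) ha he he1 hve h3 with h4 | h4
    · exfalso
      rw [conj_of_comm (h4 e (h.sd.V_zq l he))] at hke
      exact h.sd.v1 l (mul_eq_right.1 hke.symm)
    · have h5 := h4 z h1
      have h6 : a⁻¹ * z = z * a⁻¹ := by
        have h7 : a⁻¹ * z * k = z * a⁻¹ * k := by
          calc a⁻¹ * z * k = a⁻¹ * k * z := by rw [mul_assoc, ← hkz, mul_assoc]
            _ = z * a⁻¹ * k := by rw [h5]; group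
        exact mul_right_cancel h7
      calc a * z = a * (z * a⁻¹) * a := by group
        _ = a * (a⁻¹ * z) * a := by rw [h6]
        _ = z * a := by group

theorem V_Yt {j : ι} (hj : j ≠ l) : V j ≤ Yt Q t := fun x hx =>
  h.mem_Yt_of (h.sd.V_zq j hx) fun a ha =>
    h.sd.fr.Qc l j hj _ (h.sd.vV l) (h.sd.v1 l) a (h.sd.fr.KK_le_q (h.sd.vV l) (h.sd.v1 l) ha) x hx

theorem v_Yt (j : ι) : v j ∈ Yt Q t := by
  by_cases hj : j = l
  · subst hj
    exact h.mem_Yt_of (h.sd.v_zq j) fun a ha => Fr.KK_comm ha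
  · exact h.V_Yt hj (h.sd.vV j)

theorem Yt_q {z : G} (hz : z ∈ Yt Q t) : z ∈ qz (v i * y) := by
  obtain ⟨e, he, he1, hve⟩ := h.sd.fr.exists_other (i := i) (v i)
  have hee := h.sd.fr.sq i e he
  have hev1 : e * v i ≠ 1 := fun h0 => hve (by
    have h1 := eq_inv_of_mul_eq_one_right h0
    rwa [inv_eq_of_mul_eq_one_left hee] at h1)
  have hne : e ≠ e * v i := fun h0 => h.sd.v1 i (mul_eq_left.1 h0.symm)
  obtain ⟨r, hr, hrv⟩ := h.sd.fr.move he (mul_mem he (h.sd.vV i)) he1 hev1 hne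
  have hrv' : r * (e * v i) * r⁻¹ = v i := by rw [hrv, ← mul_assoc, hee, one_mul]
  have hz1 : r⁻¹ * z * r ∈ Yt Q t := by
    have h1 := h.sd.zq_act he he1 (inv_mem hr) (mem_Yt.1 hz).1
    rw [inv_inv] at h1
    rcases h1 with h1 | h1
    · rw [h1]; exact hz
    · rw [h1]; exact mul_mem (h.V_Yt (Ne.symm h.li) he) hz
  have hz2 := qz_cj t (h.sd.zq_q he he1 (mem_Yt.1 hz1).2)
  have e1 : t * (t⁻¹ * (r⁻¹ * z * r) * t) * t⁻¹ = r⁻¹ * z * r := by group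
  rw [e1, h.te he he1 hve] at hz2
  have hz3 := qz_cj r hz2
  have e2 : r * (r⁻¹ * z * r) * r⁻¹ = z := by group
  have hry : r * y * r⁻¹ = y := conj_of_comm (h.yX e he he1 r hr)
  have e3 : r * (v i * y * e) * r⁻¹ = v i * y := by
    have e4 : v i * y * e = e * v i * y := by
      rw [mul_assoc, h.sd.zq_mul_comm h.hy (h.sd.V_zq i he), ← mul_assoc, h.sd.fr.comm i i _ (h.sd.vV i) e he]
    calc r * (v i * y * e) * r⁻¹ = (r * (e * v i) * r⁻¹) * (r * y * r⁻¹) := by rw [e4]; group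
      _ = v i * y := by rw [hrv', hry]
  rwa [e2, e3] at hz3

theorem Yt_act {z : G} (hz : z ∈ Yt Q t) : t * z * t⁻¹ = z ∨ t * z * t⁻¹ = v i * y * z :=
  h.act h.tK (h.Yt_q hz)

theorem Yt_act' {z : G} (hz : z ∈ Yt Q t) : t⁻¹ * z * t = z ∨ t⁻¹ * z * t = v i * y * z := by
  have e : t * (t⁻¹ * z * t) * t⁻¹ = z := by group
  rcases h.Yt_act (h.Yt_t' hz) with h1 | h1
  · left; rw [e] at h1; exact h1.symm
  · right
    rw [e] at h1
    calc t⁻¹ * z * t = (v i * y * (v i * y)) * (t⁻¹ * z * t) := by rw [h.cc, one_mul]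
      _ = v i * y * (v i * y * (t⁻¹ * z * t)) := by group
      _ = v i * y * z := by rw [← h1]

/-- **(5)**: `t` centralises `v j`, `j ≠ l`. -/
theorem tvj {j : ι} (hjl : j ≠ l) : t * v j = v j * t := by
  by_cases hji : j = i
  · subst hji
    exact h.t_v
  rcases h.Yt_act (h.v_Yt j) with h1 | h1
  · exact comm_of_conj h1
  exfalso
  obtain ⟨e, he, he1, hve⟩ := h.sd.fr.exists_other (i := j) (v j)
  obtain ⟨a, ha, hae⟩ := h.sd.fr.move (h.sd.vV j) he (h.sd.v1 j) he1 hve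
  have haT : a ∈ (S : Subgroup G) ⊓ cz (v i) := ⟨h.sd.KS j ha, mem_cent.2
    (h.sd.fr.Qc j i (Ne.symm hji) _ (h.sd.vV j) (h.sd.v1 j) a (h.sd.fr.KK_le_q (h.sd.vV j) (h.sd.v1 j) ha) _
      (h.sd.vV i))⟩
  have hsT := h.tT1 haT
  obtain ⟨s, es⟩ : ∃ s, s = t * a * t⁻¹ := ⟨_, rfl⟩
  rw [← es] at hsT
  have hact : ∀ z ∈ Yt Q t, s * z * s⁻¹ = z ∨ s * z * s⁻¹ = v i * y * v j * z := by
    intro z hz
    rcases h.sd.zq_act (h.sd.vV j) (h.sd.v1 j) ha (mem_Yt.1 hz).2 with h2 | h2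
    · left
      calc s * z * s⁻¹ = t * (a * (t⁻¹ * z * t) * a⁻¹) * t⁻¹ := by rw [es]; group
        _ = z := by rw [h2]; group
    · right
      calc s * z * s⁻¹ = t * (a * (t⁻¹ * z * t) * a⁻¹) * t⁻¹ := by rw [es]; group
        _ = (t * v j * t⁻¹) * z := by rw [h2]; group
        _ = v i * y * v j * z := by rw [h1]
  have hsl := h.T_l hsT
  have hsm : ∀ m, m ≠ l → ∀ x ∈ V m, s * x = x * s := by
    intro m hm x hx
    rcases hact x (h.V_Yt hm hx) with h2 | h2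
    · exact comm_of_conj h2
    exfalso
    obtain ⟨m', hm', hvm⟩ := h.sd.perm s hsT.1 m
    have hml : m' ≠ l := by
      rintro rfl
      have h3 : v m = v m' := by
        calc v m = s⁻¹ * (s * v m * s⁻¹) * s := by group
          _ = s⁻¹ * (v m' * s) := by rw [hvm]; group
          _ = v m' := by rw [← hsl]; group
      exact hm (h.sd.v_inj h3)
    have h3 := hm' x hx
    rw [h2] at h3
    apply h.y_notCX
    have h4 : y = (v i)⁻¹ * (v i * y * v j * x) * x⁻¹ * (v j)⁻¹ := by group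
    rw [h4]
    exact mul_mem (mul_mem (mul_mem (inv_mem (h.sd.v_CX (Ne.symm h.li))) (h.sd.V_CX hml h3))
      (inv_mem (h.sd.V_CX hm hx))) (inv_mem (h.sd.v_CX hjl))
  obtain ⟨e', he', he1', hve'⟩ := h.sd.fr.exists_other (i := l) (v l)
  obtain ⟨a', ha', hae'⟩ := h.sd.fr.move (h.sd.vV l) he' (h.sd.v1 l) he1' hve'
  have hz := h.Yt_t (h.V_Yt hjl he)
  have hsz : s * (t * e * t⁻¹) = t * e * t⁻¹ * s := by
    rcases h.sd.two_case hsT.1 hsl hsm ha' he' he1' hve' hae' with h2 | h2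
    · exact h2 _ (mem_Yt.1 hz).1
    · have h3 := h2 _ (mem_Yt.1 hz).1
      have h4 := h.Yt_comm hz ha'
      calc s * (t * e * t⁻¹) = a' * (a'⁻¹ * s * (t * e * t⁻¹)) := by group
        _ = (a' * (t * e * t⁻¹)) * (a'⁻¹ * s) := by rw [h3]; group
        _ = t * e * t⁻¹ * s := by rw [h4]; group
  have h5 : a * e * a⁻¹ = e := by
    calc a * e * a⁻¹ = t⁻¹ * (s * (t * e * t⁻¹)) * (t * a⁻¹) := by rw [es]; group
      _ = t⁻¹ * (t * e * t⁻¹ * s) * (t * a⁻¹) := by rw [hsz]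
      _ = e := by rw [es]; group
  rw [h5] at hae
  exact h.sd.v1 j (mul_eq_right.1 hae.symm)

/-! #### `S⁰` -/

theorem S0_T : S0 (S : Subgroup G) v ≤ (S : Subgroup G) ⊓ cz (v i) := fun _ hx =>
  ⟨(mem_S0.1 hx).1, mem_cent.2 ((mem_S0.1 hx).2 i)⟩

theorem Q_S0 : Q ≤ S0 (S : Subgroup G) v := fun q hq =>
  mem_S0.2 ⟨h.sd.QS hq, fun j => h.sd.QV j _ (h.sd.vV j) q hq⟩

theorem t_S0 : t ∈ normalizer (S0 (S : Subgroup G) v : Set G) := by
  rw [mem_normalizer_iff]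
  intro x
  constructor
  · intro hx
    have hxT := h.tT1 (h.S0_T hx)
    refine mem_S0.2 ⟨hxT.1, fun j => ?_⟩
    by_cases hj : j = l
    · subst hj
      exact h.T_l hxT
    · have h1 := h.tvj hj
      have h2 : t⁻¹ * v j = v j * t⁻¹ := ((show Commute t (v j) from h1).inv_left).eq
      calc t * x * t⁻¹ * v j = t * x * (t⁻¹ * v j) := by group
        _ = t * (x * v j) * t⁻¹ := by rw [h2]; group
        _ = (t * v j) * x * t⁻¹ := by rw [(mem_S0.1 hx).2 j]; group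
        _ = v j * (t * x * t⁻¹) := by rw [h1]; group
  · intro hx
    have hxT : x ∈ (S : Subgroup G) ⊓ cz (v i) := by
      have := h.tT2 (h.S0_T hx)
      have e : t⁻¹ * (t * x * t⁻¹) * t = x := by group
      rwa [e] at this
    refine mem_S0.2 ⟨hxT.1, fun j => ?_⟩
    by_cases hj : j = l
    · subst hj
      exact h.T_l hxT
    · have h1 := h.tvj hj
      have h2 : t⁻¹ * v j = v j * t⁻¹ := ((show Commute t (v j) from h1).inv_left).eq
      calc x * v j = t⁻¹ * (t * x * t⁻¹) * (t * v j) := by group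
        _ = t⁻¹ * ((t * x * t⁻¹) * v j) * t := by rw [h1]; group
        _ = (t⁻¹ * v j) * (t * x * t⁻¹) * t := by rw [(mem_S0.1 hx).2 j]; group
        _ = v j * x := by rw [h2]; group

theorem S_S0 : (S : Subgroup G) ≤ normalizer (S0 (S : Subgroup G) v : Set G) := by
  refine norm_of fun s hs x hx => mem_S0.2 ⟨mul_mem (mul_mem hs (mem_S0.1 hx).1) (inv_mem hs), fun j => ?_⟩
  obtain ⟨m, -, hm⟩ := h.sd.perm s⁻¹ (inv_mem hs) j
  have h1 := (mem_S0.1 hx).2 m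
  calc s * x * s⁻¹ * v j = s * (x * (s⁻¹ * v j * s⁻¹⁻¹)) * s⁻¹ := by group
    _ = s * (x * v m) * s⁻¹ := by rw [hm]
    _ = s * (v m * x) * s⁻¹ := by rw [h1]
    _ = s * ((s⁻¹ * v j * s⁻¹⁻¹) * x) * s⁻¹ := by rw [hm]
    _ = v j * (s * x * s⁻¹) := by group

theorem Z0_zq {z : G} (hz : z ∈ zc (S0 (S : Subgroup G) v)) : z ∈ zc Q := by
  have h1 := mem_zc.1 hz
  exact h.sd.mem_zq (fun q hq => h1.2.1 q (h.Q_S0 hq)) (by rw [← pow_two]; exact h1.2.2)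

theorem Z0_Yt {z : G} (hz : z ∈ zc (S0 (S : Subgroup G) v)) : z ∈ Yt Q t := by
  refine h.mem_Yt_of (h.Z0_zq hz) fun a ha => (mem_zc.1 hz).2.1 a (mem_S0.2 ⟨h.sd.KS l ha, fun j => ?_⟩)
  by_cases hj : j = l
  · subst hj
    exact Fr.KK_comm ha
  · exact h.sd.fr.Qc l j hj _ (h.sd.vV l) (h.sd.v1 l) a (h.sd.fr.KK_le_q (h.sd.vV l) (h.sd.v1 l) ha) _ (h.sd.vV j)

theorem v_Z0 (j : ι) : v j ∈ zc (S0 (S : Subgroup G) v) :=
  mem_zc.2 ⟨h.Q_S0 (mem_zc.1 (h.sd.v_zq j)).1, fun x hx => (mem_S0.1 hx).2 j, by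
    rw [pow_two]; exact h.sd.fr.sq j _ (h.sd.vV j)⟩

theorem d_zq : v l * y ∈ zc Q := mul_mem (h.sd.v_zq l) h.hy

theorem d_D0 : v l * y ∈ D0 (S : Subgroup G) V v :=
  mem_D0.2 ⟨mem_zc.2 ⟨h.Q_S0 (mem_zc.1 h.d_zq).1, fun x hx => h.T_d (h.S0_T hx), by
    rw [pow_two]; exact h.sd.zq_sq h.d_zq⟩, h.dX⟩

theorem N_Z0 {n z : G} (hn : n ∈ normalizer (S0 (S : Subgroup G) v : Set G))
    (hz : z ∈ zc (S0 (S : Subgroup G) v)) : n * z * n⁻¹ ∈ zc (S0 (S : Subgroup G) v) :=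
  (mem_normalizer_iff.1 (normalizer_le_normalizer_zc _ hn) z).1 hz

theorem N_Z0' {n z : G} (hn : n ∈ normalizer (S0 (S : Subgroup G) v : Set G))
    (hz : z ∈ zc (S0 (S : Subgroup G) v)) : n⁻¹ * z * n ∈ zc (S0 (S : Subgroup G) v) := by
  have := h.N_Z0 (inv_mem hn) hz
  rwa [inv_inv] at this

/-- **(6)**: the transposition `s = (l m)` of `S` -/
theorem exists_s₀ : ∃ s ∈ (S : Subgroup G), ∃ m, m ≠ l ∧ s * v l * s⁻¹ = v m ∧
    ∀ z ∈ zc (S0 (S : Subgroup G) v), s * z * s⁻¹ = z ∨ s * z * s⁻¹ = v m * v l * z := by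
  have hz2 : IsPGroup 2 (zpowers t) := (o2_isPGroup (cz (v i * y))).to_le ((zpowers_le).2 h.tq)
  obtain ⟨n, hn, hnt⟩ := exists_conj_le S h.S_S0 hz2 ((zpowers_le).2 h.t_S0)
  have hs₀ := hnt t (mem_zpowers t)
  obtain ⟨s₀, es₀⟩ : ∃ s₀, s₀ = n * t * n⁻¹ := ⟨_, rfl⟩
  rw [← es₀] at hs₀
  have hact : ∀ z ∈ zc (S0 (S : Subgroup G) v),
      s₀ * z * s₀⁻¹ = z ∨ s₀ * z * s₀⁻¹ = n * (v i * y) * n⁻¹ * z := by
    intro z hz
    rcases h.Yt_act (h.Z0_Yt (h.N_Z0' hn hz)) with h1 | h1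
    · left
      calc s₀ * z * s₀⁻¹ = n * (t * (n⁻¹ * z * n) * t⁻¹) * n⁻¹ := by rw [es₀]; group
        _ = z := by rw [h1]; group
    · right
      calc s₀ * z * s₀⁻¹ = n * (t * (n⁻¹ * z * n) * t⁻¹) * n⁻¹ := by rw [es₀]; group
        _ = n * (v i * y) * n⁻¹ * z := by rw [h1]; group
  obtain ⟨j, hj⟩ : ∃ j, s₀ * v j ≠ v j * s₀ := by
    by_contra hcon
    push Not at hcon
    have h1 : s₀ ∈ S0 (S : Subgroup G) v := mem_S0.2 ⟨hs₀, hcon⟩
    have h2 := (mem_zc.1 (h.N_Z0 hn (h.v_Z0 l))).2.1 s₀ h1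
    have h3 : t * v l * t⁻¹ = v l := by
      calc t * v l * t⁻¹ = n⁻¹ * (s₀ * (n * v l * n⁻¹)) * (n * t⁻¹) := by rw [es₀]; group
        _ = n⁻¹ * (n * v l * n⁻¹ * s₀) * (n * t⁻¹) := by rw [h2]
        _ = v l := by rw [es₀]; group
    rw [h.tl'] at h3
    have h4 := mul_eq_right.1 h3
    have h5 : v i = y := by
      have := eq_inv_of_mul_eq_one_left h4
      rwa [inv_eq_of_mul_eq_one_left (h.sd.zq_sq h.hy)] at this
    exact h.y_notV (h5 ▸ h.sd.vV i)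
  obtain ⟨j', -, hj'⟩ := h.sd.perm s₀ hs₀ j
  have hjj : j' ≠ j := by
    rintro rfl
    exact hj (comm_of_conj hj')
  have hc : n * (v i * y) * n⁻¹ = v j' * v j := by
    rcases hact (v j) (h.v_Z0 j) with h1 | h1
    · exact absurd (comm_of_conj h1) hj
    · rw [hj'] at h1
      calc n * (v i * y) * n⁻¹ = n * (v i * y) * n⁻¹ * (v j * v j) := by
            rw [h.sd.fr.sq j _ (h.sd.vV j), mul_one]
        _ = (n * (v i * y) * n⁻¹ * v j) * v j := by group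
        _ = v j' * v j := by rw [← h1]
  obtain ⟨x, hx, hxj⟩ := h.sd.tr j l
  obtain ⟨m, -, hm⟩ := h.sd.perm x hx j'
  refine ⟨x * s₀ * x⁻¹, mul_mem (mul_mem hx hs₀) (inv_mem hx), m, ?_, ?_, fun z hz => ?_⟩
  · rintro rfl
    apply hjj
    apply h.sd.v_inj
    calc v j' = x⁻¹ * (x * v j' * x⁻¹) * x := by group
      _ = x⁻¹ * (x * v j * x⁻¹) * x := by rw [hm, hxj]
      _ = v j := by group
  · calc x * s₀ * x⁻¹ * v l * (x * s₀ * x⁻¹)⁻¹ = x * (s₀ * (x⁻¹ * v l * x) * s₀⁻¹) * x⁻¹ := by group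
      _ = x * (s₀ * (x⁻¹ * (x * v j * x⁻¹) * x) * s₀⁻¹) * x⁻¹ := by rw [hxj]
      _ = x * (s₀ * v j * s₀⁻¹) * x⁻¹ := by group
      _ = v m := by rw [hj', hm]
  · have hz' := h.N_Z0' (h.S_S0 hx) hz
    rcases hact _ hz' with h1 | h1
    · left
      calc x * s₀ * x⁻¹ * z * (x * s₀ * x⁻¹)⁻¹ = x * (s₀ * (x⁻¹ * z * x) * s₀⁻¹) * x⁻¹ := by group
        _ = z := by rw [h1]; group
    · right
      calc x * s₀ * x⁻¹ * z * (x * s₀ * x⁻¹)⁻¹ = x * (s₀ * (x⁻¹ * z * x) * s₀⁻¹) * x⁻¹ := by group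
        _ = (x * v j' * x⁻¹) * (x * v j * x⁻¹) * z := by rw [h1, hc]; group
        _ = v m * v l * z := by rw [hm, hxj]

/-- the transposition `s = (l i)` of `S` -/
theorem exists_s : ∃ s ∈ (S : Subgroup G), s * v l * s⁻¹ = v i ∧ s * v i * s⁻¹ = v l ∧
    ∀ z ∈ zc (S0 (S : Subgroup G) v), s * z * s⁻¹ = z ∨ s * z * s⁻¹ = v i * v l * z := by
  obtain ⟨s, hs, m, hml, hsl, hact⟩ := h.exists_s₀
  have hmi : m = i := by
    by_contra hmi
    have h1 : s * v i * s⁻¹ = v i := by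
      rcases hact (v i) (h.v_Z0 i) with h1 | h1
      · exact h1
      exfalso
      obtain ⟨i', -, hi'⟩ := h.sd.perm s hs i
      rw [hi'] at h1
      by_cases hil : i' = l
      · subst hil
        have h2 : v m * v i = 1 := by
          have h3 : v i' * (v m * v i) = v i' := by
            calc v i' * (v m * v i) = (v i' * v m) * v i := by group
              _ = v m * v i' * v i := by rw [h.sd.fr.comm i' m _ (h.sd.vV i') _ (h.sd.vV m)]
              _ = v i' := h1.symm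
          exact mul_eq_left.1 h3
        have h4 := eq_inv_of_mul_eq_one_left h2
        rw [inv_eq_of_mul_eq_one_left (h.sd.fr.sq i _ (h.sd.vV i))] at h4
        exact hmi (h.sd.v_inj h4)
      · apply h.sd.v_notCX l
        have h2 : v l = (v m)⁻¹ * (v m * v l * v i) * (v i)⁻¹ := by group
        rw [h2, ← h1]
        exact mul_mem (mul_mem (inv_mem (h.sd.v_CX hml)) (h.sd.v_CX hil))
          (inv_mem (h.sd.v_CX (Ne.symm h.li)))
    have h2 := h.T_l ⟨hs, mem_cent.2 (comm_of_conj h1)⟩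
    rw [conj_of_comm h2] at hsl
    exact hml (h.sd.v_inj hsl.symm)
  subst hmi
  refine ⟨s, hs, hsl, ?_, hact⟩
  rcases hact (v m) (h.v_Z0 m) with h1 | h1
  · exfalso
    have h2 : v l = v m := by
      calc v l = s⁻¹ * (s * v l * s⁻¹) * s := by group
        _ = s⁻¹ * (s * v m * s⁻¹) * s := by rw [hsl, h1]
        _ = v m := by group
    exact h.li (h.sd.v_inj h2)
  · rw [h1, mul_assoc, h.sd.fr.comm l m _ (h.sd.vV l) _ (h.sd.vV m), ← mul_assoc,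
      h.sd.fr.sq m _ (h.sd.vV m), one_mul]

/-- the group of the `n ∈ N_G(S⁰)` with `[Ω₁Z(S⁰), n] ≤ D⁰`, `[D⁰, n] = 1` -/
def U0 {ι : Type} (S : Subgroup G) (V : ι → Subgroup G) (v : ι → G) : Subgroup G where
  carrier := {n | n ∈ normalizer (S0 S v : Set G) ∧ (∀ z ∈ D0 S V v, n * z * n⁻¹ = z) ∧
    ∀ z ∈ zc (S0 S v), n * z * n⁻¹ * z⁻¹ ∈ D0 S V v}
  one_mem' := ⟨one_mem _, fun z _ => by group, fun z _ => by
    have e : (1 : G) * z * 1⁻¹ * z⁻¹ = 1 := by group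
    rw [e]; exact one_mem _⟩
  mul_mem' := by
    rintro a b ⟨ha, ha1, ha2⟩ ⟨hb, hb1, hb2⟩
    refine ⟨mul_mem ha hb, fun z hz => ?_, fun z hz => ?_⟩
    · calc a * b * z * (a * b)⁻¹ = a * (b * z * b⁻¹) * a⁻¹ := by group
        _ = z := by rw [hb1 z hz, ha1 z hz]
    · have e : a * b * z * (a * b)⁻¹ * z⁻¹ = (a * (b * z * b⁻¹ * z⁻¹) * a⁻¹) * (a * z * a⁻¹ * z⁻¹) := by group
      rw [e, ha1 _ (hb2 z hz)]
      exact mul_mem (hb2 z hz) (ha2 z hz)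
  inv_mem' := by
    rintro a ⟨ha, ha1, ha2⟩
    have h1 : ∀ z ∈ D0 S V v, a⁻¹ * z * a⁻¹⁻¹ = z := fun z hz => by
      calc a⁻¹ * z * a⁻¹⁻¹ = a⁻¹ * (a * z * a⁻¹) * a := by rw [ha1 z hz]; group
        _ = z := by group
    refine ⟨inv_mem ha, h1, fun z hz => ?_⟩
    have h2 := h1 _ (ha2 z hz)
    have e : a⁻¹ * z * a⁻¹⁻¹ * z⁻¹ = (a⁻¹ * (a * z * a⁻¹ * z⁻¹) * a⁻¹⁻¹)⁻¹ := by group
    rw [e, h2]
    exact inv_mem (ha2 z hz)

omit [Finite G] h in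
theorem mem_U0 {ι : Type} {S : Subgroup G} {V : ι → Subgroup G} {v : ι → G} {n : G} :
    n ∈ U0 S V v ↔ n ∈ normalizer (S0 S v : Set G) ∧ (∀ z ∈ D0 S V v, n * z * n⁻¹ = z) ∧
      ∀ z ∈ zc (S0 S v), n * z * n⁻¹ * z⁻¹ ∈ D0 S V v := Iff.rfl

theorem S_D0 {s z : G} (hs : s ∈ (S : Subgroup G)) (hz : z ∈ D0 (S : Subgroup G) V v) :
    s * z * s⁻¹ ∈ D0 (S : Subgroup G) V v :=
  mem_D0.2 ⟨h.N_Z0 (h.S_S0 hs) (mem_D0.1 hz).1, fun j => h.sd.CX_conj hs (mem_D0.1 hz).2 j⟩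

theorem S_U0 {s n : G} (hs : s ∈ (S : Subgroup G)) (hn : n ∈ U0 (S : Subgroup G) V v) :
    s * n * s⁻¹ ∈ U0 (S : Subgroup G) V v := by
  obtain ⟨h1, h2, h3⟩ := mem_U0.1 hn
  refine mem_U0.2 ⟨mul_mem (mul_mem (h.S_S0 hs) h1) (inv_mem (h.S_S0 hs)), fun z hz => ?_, fun z hz => ?_⟩
  · have h4 := h2 _ (h.S_D0 (inv_mem hs) hz)
    rw [inv_inv] at h4
    calc s * n * s⁻¹ * z * (s * n * s⁻¹)⁻¹ = s * (n * (s⁻¹ * z * s) * n⁻¹) * s⁻¹ := by group
      _ = z := by rw [h4]; group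
  · have h4 := h.S_D0 hs (h3 _ (h.N_Z0' (h.S_S0 hs) hz))
    have e : s * n * s⁻¹ * z * (s * n * s⁻¹)⁻¹ * z⁻¹ =
        s * (n * (s⁻¹ * z * s) * n⁻¹ * (s⁻¹ * z * s)⁻¹) * s⁻¹ := by group
    rw [e]
    exact h4

/-- a 2-subgroup of `U⁰` is `U⁰`-conjugate to a subgroup of `S` -/
theorem exists_u {X : Subgroup G} (hX : IsPGroup 2 X) (hXU : X ≤ U0 (S : Subgroup G) V v) :
    ∃ w ∈ U0 (S : Subgroup G) V v, ∀ x ∈ X, w * x * w⁻¹ ∈ (S : Subgroup G) := by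
  let K : Subgroup G :=
    { carrier := {x | ∃ a ∈ (S : Subgroup G), ∃ b ∈ U0 (S : Subgroup G) V v, x = a * b}
      one_mem' := ⟨1, one_mem _, 1, one_mem _, by group⟩
      mul_mem' := by
        rintro _ _ ⟨a, ha, b, hb, rfl⟩ ⟨a', ha', b', hb', rfl⟩
        refine ⟨a * a', mul_mem ha ha', (a'⁻¹ * b * a') * b', mul_mem ?_ hb', by group⟩
        have := h.S_U0 (inv_mem ha') hb
        rwa [inv_inv] at this
      inv_mem' := by
        rintro _ ⟨a, ha, b, hb, rfl⟩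
        exact ⟨a⁻¹, inv_mem ha, a * b⁻¹ * a⁻¹, h.S_U0 ha (inv_mem hb), by group⟩ }
  have hSK : (S : Subgroup G) ≤ K := fun a ha => ⟨a, ha, 1, one_mem _, by group⟩
  have hXK : X ≤ K := fun b hb => ⟨1, one_mem _, b, hXU hb, by group⟩
  obtain ⟨_, ⟨a, ha, b, hb, rfl⟩, h1⟩ := exists_conj_le S hSK hX hXK
  refine ⟨b, hb, fun x hx => ?_⟩
  have h2 := mul_mem (mul_mem (inv_mem ha) (h1 x hx)) ha
  have e : a⁻¹ * (a * b * x * (a * b)⁻¹) * a = b * x * b⁻¹ := by group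
  rwa [e] at h2

/-- **The contradiction.** -/
theorem false : False := by
  obtain ⟨s, hs, hsl, hsi, hact⟩ := h.exists_s
  have hd := h.d_D0
  have hdz := (mem_D0.1 hd).1
  -- `s` centralises `D⁰`
  have hsD : ∀ z ∈ D0 (S : Subgroup G) V v, s * z * s⁻¹ = z := by
    intro z hz
    rcases hact z (mem_D0.1 hz).1 with h1 | h1
    · exact h1
    exfalso
    have h2 := (mem_D0.1 (h.S_D0 hs hz)).2 i
    rw [h1] at h2
    apply h.sd.v_notCX i
    have h3 : v i = (v i * v l * z) * z⁻¹ * (v l)⁻¹ := by group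
    rw [h3]
    exact mul_mem (mul_mem h2 (inv_mem ((mem_D0.1 hz).2 i))) (inv_mem (h.sd.v_CX h.li))
  have hll := h.sd.fr.sq l _ (h.sd.vV l)
  have hii := h.sd.fr.sq i _ (h.sd.vV i)
  have hc : v i * y = v i * v l * (v l * y) := by
    calc v i * y = v i * (v l * v l) * y := by rw [hll, mul_one]
      _ = v i * v l * (v l * y) := by group
  have hsc : s * (v i * y) * s⁻¹ = v i * y := by
    calc s * (v i * y) * s⁻¹ = (s * v i * s⁻¹) * (s * v l * s⁻¹) * (s * (v l * y) * s⁻¹) := by rw [hc]; group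
      _ = v l * v i * (v l * y) := by rw [hsi, hsl, hsD _ hd]
      _ = v i * y := by rw [h.sd.fr.comm l i _ (h.sd.vV l) _ (h.sd.vV i), ← hc]
  have hcl : v i * (v i * y * v l) = v l * y := by
    rw [h.c_eq, ← mul_assoc, hii, one_mul]
  have htvv : t * (v i * v l) * t⁻¹ = v l * y := by
    calc t * (v i * v l) * t⁻¹ = (t * v i * t⁻¹) * (t * v l * t⁻¹) := by group
      _ = v l * y := by rw [conj_of_comm h.t_v, h.tl', hcl]
  -- `s' = t * s * t⁻¹`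
  obtain ⟨s', es'⟩ : ∃ s', s' = t * s * t⁻¹ := ⟨_, rfl⟩
  have hZ0 : ∀ z ∈ zc (S0 (S : Subgroup G) v), s' * z * s'⁻¹ = z ∨ s' * z * s'⁻¹ = v l * y * z := by
    intro z hz
    have hz' := h.N_Z0' h.t_S0 hz
    rcases hact _ hz' with h1 | h1
    · left
      calc s' * z * s'⁻¹ = t * (s * (t⁻¹ * z * t) * s⁻¹) * t⁻¹ := by rw [es']; group
        _ = z := by rw [h1]; group
    · right
      calc s' * z * s'⁻¹ = t * (s * (t⁻¹ * z * t) * s⁻¹) * t⁻¹ := by rw [es']; group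
        _ = (t * (v i * v l) * t⁻¹) * z := by rw [h1]; group
        _ = v l * y * z := by rw [htvv]
  have hD0' : ∀ z ∈ D0 (S : Subgroup G) V v, s' * z * s'⁻¹ = z := by
    intro z hz
    have h1 : s * (t⁻¹ * z * t) * s⁻¹ = t⁻¹ * z * t := by
      rcases h.Yt_act' (h.Z0_Yt (mem_D0.1 hz).1) with h2 | h2
      · rw [h2, hsD z hz]
      · rw [h2]
        calc s * (v i * y * z) * s⁻¹ = (s * (v i * y) * s⁻¹) * (s * z * s⁻¹) := by group
          _ = v i * y * z := by rw [hsc, hsD z hz]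
    calc s' * z * s'⁻¹ = t * (s * (t⁻¹ * z * t) * s⁻¹) * t⁻¹ := by rw [es']; group
      _ = z := by rw [h1]; group
  have hs'U : s' ∈ U0 (S : Subgroup G) V v := by
    refine mem_U0.2 ⟨?_, hD0', fun z hz => ?_⟩
    · rw [es']
      exact mul_mem (mul_mem h.t_S0 (h.S_S0 hs)) (inv_mem h.t_S0)
    · rcases hZ0 z hz with h1 | h1
      · rw [h1, mul_inv_cancel]; exact one_mem _
      · rw [h1, mul_inv_cancel_right]; exact hd
  have hs'2 : IsPGroup 2 (zpowers s') := by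
    refine (S.isPGroup'.map (MulAut.conj t).toMonoidHom).to_le ((zpowers_le).2 ⟨s, hs, ?_⟩)
    rw [es']
    rfl
  have hs'v : s' * v i * s'⁻¹ = v i * (v l * y) := by
    calc s' * v i * s'⁻¹ = t * (s * (t⁻¹ * (v i * t)) * s⁻¹) * t⁻¹ := by rw [es']; group
      _ = t * (s * v i * s⁻¹) * t⁻¹ := by rw [← h.t_v]; group
      _ = v i * (v l * y) := by rw [hsi, h.tl', h.c_eq]
  obtain ⟨w, hw, hwX⟩ := h.exists_u hs'2 ((zpowers_le).2 hs'U)
  have hx := hwX s' (mem_zpowers s')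
  obtain ⟨-, hw1, hw2⟩ := mem_U0.1 hw
  obtain ⟨-, hv1, hv2⟩ := mem_U0.1 (inv_mem hw)
  -- `w s' w⁻¹` maps `v i` to `v i * d`
  obtain ⟨δ, eδ⟩ : ∃ δ, δ = w⁻¹ * v i * w⁻¹⁻¹ * (v i)⁻¹ := ⟨_, rfl⟩
  have hδ : δ ∈ D0 (S : Subgroup G) V v := by rw [eδ]; exact hv2 _ (h.v_Z0 i)
  have e1 : w⁻¹ * v i * w = δ * v i := by rw [eδ]; group
  have hdw : w * (v l * y) * w⁻¹ = v l * y := hw1 _ hd
  have hδs : s' * δ * s'⁻¹ = δ := hD0' δ hδ
  have e2 : w * s' * w⁻¹ * v i * (w * s' * w⁻¹)⁻¹ = v i * (v l * y) := by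
    calc w * s' * w⁻¹ * v i * (w * s' * w⁻¹)⁻¹ = w * (s' * (w⁻¹ * v i * w) * s'⁻¹) * w⁻¹ := by group
      _ = w * ((s' * δ * s'⁻¹) * (s' * v i * s'⁻¹)) * w⁻¹ := by rw [e1]; group
      _ = (w * (δ * v i) * w⁻¹) * (w * (v l * y) * w⁻¹) := by rw [hδs, hs'v]; group
      _ = (w * (w⁻¹ * v i * w) * w⁻¹) * (v l * y) := by rw [e1, hdw]
      _ = v i * (v l * y) := by group
  obtain ⟨m, -, hm⟩ := h.sd.perm _ hx i
  rw [e2] at hm
  by_cases hmi : m = i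
  · subst hmi
    have h1 : v l * y = 1 := mul_eq_left.1 hm
    have h2 : t * v l * t⁻¹ = v m := by rw [h.tl', h.c_eq, h1, mul_one]
    have h3 : v l = v m := by
      calc v l = t⁻¹ * (t * v l * t⁻¹) * t := by group
        _ = t⁻¹ * (v m * t) := by rw [h2]; group
        _ = v m := by rw [← h.t_v]; group
    exact h.li (h.sd.v_inj h3)
  · apply h.sd.v_notCX i
    have h1 : v i = (v i * (v l * y)) * (v l * y)⁻¹ := by group
    rw [h1, hm]
    exact mul_mem (h.sd.v_CX hmi) (inv_mem (h.dX i))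

end Sl

/-- **(SURV) is impossible.** -/
theorem Sv.false [Finite G] {ι : Type} {S : Sylow 2 G} {Q : Subgroup G} {V : ι → Subgroup G} {v : ι → G}
    {i : ι} {y g₀ : G} (h : Sv S Q V v i y g₀) : False := by
  obtain ⟨t, h1, h2, h3, h4⟩ := h.exists_t
  obtain ⟨l, hl⟩ := St.exists_sl (t := t) { h with tK := h1, tT := h2, tn := h3, tt := h4 }
  exact hl.false

end Cfsg.Agent.Omega.IId.Surv

end
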